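import Mathlib

/-!
Counting pairs with nonvanishing resultant, degrees `(2, n)`.
-/

set_option autoImplicit false
universe u

namespace Res52

open Polynomial

variable {F : Type u} [Field F]

noncomputable def pol {k : ℕ} (a : Fin k → F) : F[X] := ∑ i : Fin k, C (a i) * X ^ (i : ℕ)

theorem coeff_pol {k : ℕ} (a : Fin k → F) (j : ℕ) :
    (pol a).coeff j = if h : j < k then a ⟨j, h⟩ else 0 := by
  rw [pol, finsetSum_coeff]
  split_ifs with h
  · rw [Finset.sum_eq_single ⟨j, h⟩]
    · simp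
    · intro i _ hi
      rw [coeff_C_mul_X_pow, if_neg]
      exact fun h' => hi (Fin.ext h'.symm)
    · simp
  · refine Finset.sum_eq_zero fun i _ => ?_
    rw [coeff_C_mul_X_pow, if_neg]
    intro h'; omega

theorem natDegree_pol {k : ℕ} (a : Fin (k + 1) → F) : (pol a).natDegree ≤ k :=
  natDegree_le_iff_coeff_eq_zero.2 fun j hj => by rw [coeff_pol, dif_neg (by omega)]

theorem resultant_two_one (a : Fin 3 → F) (u v : F) :
    resultant (pol a) (C u + C v * X) 2 1 = a 0 * v ^ 2 - a 1 * u * v + a 2 * u ^ 2 := by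
  rcases eq_or_ne v 0 with rfl | hv
  · rw [map_zero, zero_mul, add_zero, resultant_C_right, coeff_pol, dif_pos (show 2 < 3 by omega)]
    simp
  · have h : C u + C v * X = C v * (X + C (u / v)) := by
      rw [mul_add, ← map_mul, mul_div_cancel₀ u hv, add_comm]
    rw [h, resultant_C_mul_right, resultant_X_add_C_right _ _ _ (natDegree_pol a)]
    simp [pol, Fin.sum_univ_three]
    field_simp
    ring

/-- Division with remainder, as a map on coefficient vectors. -/
noncomputable def recon (a : Fin 3 → F) {m : ℕ} (x : F × F × (Fin (m + 1) → F)) : Fin (m + 3) → F :=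
  fun j => (C x.1 + C x.2.1 * X + pol a * pol x.2.2).coeff j

theorem natDegree_recon (a : Fin 3 → F) {m : ℕ} (x : F × F × (Fin (m + 1) → F)) :
    (C x.1 + C x.2.1 * X + pol a * pol x.2.2).natDegree ≤ m + 2 := by
  refine natDegree_add_le_of_degree_le ?_ ?_
  · rw [add_comm]; exact natDegree_linear_le.trans (by omega)
  · exact natDegree_mul_le.trans (by have := natDegree_pol a; have := natDegree_pol x.2.2; omega)

theorem pol_recon (a : Fin 3 → F) {m : ℕ} (x : F × F × (Fin (m + 1) → F)) :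
    pol (recon a x) = C x.1 + C x.2.1 * X + pol a * pol x.2.2 := by
  ext j
  rw [coeff_pol]
  split_ifs with h
  · rfl
  · rw [coeff_eq_zero_of_natDegree_lt ((natDegree_recon a x).trans_lt (by omega))]

variable [Fintype F] [DecidableEq F]

theorem recon_bijective (a : Fin 3 → F) (ha : a 2 ≠ 0) (m : ℕ) :
    Function.Bijective (recon a (m := m)) := by
  rw [Fintype.bijective_iff_injective_and_card]
  refine ⟨fun x y h => ?_, by simp; ring⟩
  have h' := congrArg pol h
  rw [pol_recon, pol_recon] at h'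
  have hd : (pol a).natDegree = 2 := le_antisymm (natDegree_pol a)
    (le_natDegree_of_ne_zero (by rw [coeff_pol, dif_pos (show 2 < 3 by omega)]; exact ha))
  have e : pol a * (pol x.2.2 - pol y.2.2) = C (y.1 - x.1) + C (y.2.1 - x.2.1) * X := by
    rw [map_sub, map_sub]
    linear_combination h'
  have hp : pol x.2.2 = pol y.2.2 := by
    by_contra hne
    have hne' := sub_ne_zero.2 hne
    have hdeg := congrArg natDegree e
    rw [natDegree_mul (fun h0 => by simp [h0] at hd) hne', hd] at hdeg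
    have : (C (y.1 - x.1) + C (y.2.1 - x.2.1) * X).natDegree ≤ 1 := by
      rw [add_comm]; exact natDegree_linear_le
    omega
  rw [hp, sub_self, mul_zero] at e
  have e0 := congrArg (fun p => Polynomial.coeff p 0) e
  have e1 := congrArg (fun p => Polynomial.coeff p 1) e
  simp at e0 e1
  refine Prod.ext (by linear_combination e0) (Prod.ext (by linear_combination e1) ?_)
  funext i
  have := congrArg (fun p => Polynomial.coeff p i) hp
  simpa [coeff_pol, i.is_le] using this

theorem resultant_recon (a : Fin 3 → F) {m : ℕ} (x : F × F × (Fin (m + 1) → F)) :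
    resultant (pol a) (pol (recon a x)) 2 (m + 2) =
      a 2 ^ (m + 1) * (a 0 * x.2.1 ^ 2 - a 1 * x.1 * x.2.1 + a 2 * x.1 ^ 2) := by
  rw [pol_recon, resultant_add_mul_right _ _ _ _ _ (by have := natDegree_pol x.2.2; omega) (natDegree_pol a),
    show m + 2 = 1 + (m + 1) by omega, resultant_add_right_deg, resultant_two_one, coeff_pol,
    dif_pos (show 2 < 3 by omega)]
  · rfl
  · rw [add_comm]; exact natDegree_linear_le

/-- Indicator. -/
def ind (P : Prop) [Decidable P] : ℕ := if P then 1 else 0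

theorem sum_ind_ne (c : F) : ∑ x : F, ind (x ≠ c) = Fintype.card F - 1 := by
  simp only [ind, Finset.sum_boole, Nat.cast_id, Finset.filter_ne', Finset.card_erase_of_mem, Finset.mem_univ,
    Finset.card_univ]

theorem sum_fin_succ {α : Type*} [Fintype α] {k : ℕ} {M : Type*} [AddCommMonoid M] [DecidableEq α]
    (f : (Fin (k + 1) → α) → M) : ∑ g, f g = ∑ x : α, ∑ t : Fin k → α, f (Fin.cons x t) := by
  rw [← Fintype.sum_prod_type']
  exact (Fintype.sum_equiv (Fin.consEquiv fun _ => α) _ _ fun _ => rfl).symm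

open Classical in
noncomputable def cnt (n : ℕ) (a : Fin 3 → F) : ℕ :=
  ∑ g : Fin (n + 1) → F, ind (resultant (pol a) (pol g) 2 n ≠ 0)

theorem cnt_of_ne (m : ℕ) (a : Fin 3 → F) (ha : a 2 ≠ 0) :
    cnt (m + 2) a = Fintype.card F ^ (m + 1) *
      ∑ w : F × F, ind (a 0 * w.2 ^ 2 - a 1 * w.1 * w.2 + a 2 * w.1 ^ 2 ≠ 0) := by
  classical
  rw [cnt, ← (recon_bijective a ha m).sum_comp]
  simp only [resultant_recon, ind, ne_eq, mul_eq_zero, pow_eq_zero_iff', ha, false_and, false_or]
  rw [Fintype.sum_prod_type, Fintype.sum_prod_type, Finset.mul_sum]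
  refine Finset.sum_congr rfl fun u _ => ?_
  rw [Fintype.sum_prod_type, Finset.mul_sum]
  refine Finset.sum_congr rfl fun v _ => ?_
  by_cases h : a 0 * v ^ 2 - a 1 * u * v + a 2 * u ^ 2 = 0 <;> simp [h]

theorem sum_quad (c : F) (hc : c ≠ 0) :
    ∑ a0 : F, ∑ a1 : F, ∑ w : F × F, ind (a0 * w.2 ^ 2 - a1 * w.1 * w.2 + c * w.1 ^ 2 ≠ 0) =
      (Fintype.card F - 1) * Fintype.card F ^ 2 +
        (Fintype.card F - 1) * Fintype.card F * (Fintype.card F * (Fintype.card F - 1)) := by
  classical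
  set q := Fintype.card F
  have hv : ∀ v : F, v ≠ 0 → ∀ u : F,
      (∑ a0 : F, ∑ a1 : F, ind (a0 * v ^ 2 - a1 * u * v + c * u ^ 2 ≠ 0)) = q * (q - 1) := by
    intro v hv u
    rw [Finset.sum_comm]
    have : ∀ a1 : F, ∑ a0 : F, ind (a0 * v ^ 2 - a1 * u * v + c * u ^ 2 ≠ 0) = q - 1 := fun a1 => by
      rw [← sum_ind_ne ((a1 * u * v - c * u ^ 2) / v ^ 2)]
      refine Finset.sum_congr rfl fun x _ => ?_
      simp only [ind]
      congr 1
      rw [eq_iff_iff]
      refine not_congr ?_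
      rw [eq_div_iff (pow_ne_zero 2 hv)]
      exact ⟨fun h => by linear_combination h, fun h => by linear_combination h⟩
    simp [this, q, Finset.card_univ]
  have h0 : ∀ u : F, (∑ a0 : F, ∑ a1 : F, ind (a0 * (0 : F) ^ 2 - a1 * u * 0 + c * u ^ 2 ≠ 0)) =
      q ^ 2 * ind (u ≠ 0) := by
    intro u
    simp [ind, hc, q, Finset.card_univ, sq]
  calc _ = ∑ w : F × F, ∑ a0 : F, ∑ a1 : F, ind (a0 * w.2 ^ 2 - a1 * w.1 * w.2 + c * w.1 ^ 2 ≠ 0) := by
        rw [Finset.sum_congr rfl fun a0 _ => Finset.sum_comm, Finset.sum_comm]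
    _ = ∑ u : F, ∑ v : F, ∑ a0 : F, ∑ a1 : F, ind (a0 * v ^ 2 - a1 * u * v + c * u ^ 2 ≠ 0) :=
        Fintype.sum_prod_type _
    _ = _ := by
      rw [Finset.sum_comm, Fintype.sum_eq_add_sum_compl (0 : F), Finset.sum_congr rfl fun u _ => h0 u,
        ← Finset.mul_sum, sum_ind_ne, Finset.sum_congr rfl fun v hv' => Finset.sum_congr rfl fun u _ =>
          hv v (by simpa using hv') u]
      simp only [Finset.sum_const, Finset.card_compl, Finset.card_singleton, Finset.card_univ, smul_eq_mul]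
      ring

theorem cnt_of_eq_of_ne (m : ℕ) (a : Fin 3 → F) (ha : a 2 = 0) (ha1 : a 1 ≠ 0) :
    cnt (m + 2) a = (Fintype.card F - 1) * (Fintype.card F - 1) * Fintype.card F ^ (m + 1) := by
  classical
  set x : F := -(a 0 / a 1) with hx
  have hR : ∀ g : Fin (m + 3) → F, resultant (pol a) (pol g) 2 (m + 2) =
      (-1) ^ (m + 2) * g (Fin.last (m + 2)) * (a 1 ^ (m + 2) * (pol g).eval x) := by
    intro g
    have hf : pol a = C (a 1) * (X + C (a 0 / a 1)) := by
      rw [mul_add, ← map_mul, mul_div_cancel₀ _ ha1, pol, Fin.sum_univ_three, ha]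
      simp [add_comm]
    have hd : (pol a).natDegree ≤ 1 := by
      rw [hf]; exact (natDegree_C_mul_le _ _).trans (natDegree_X_add_C _).le
    refine (resultant_succ_left_deg _ _ 1 _ hd).trans ?_
    rw [coeff_pol, dif_pos (by omega), hf,
      resultant_C_mul_left, resultant_X_add_C_left _ _ _ (natDegree_pol g)]
    rfl
  let σ : (Fin (m + 3) → F) ≃ (Fin (m + 3) → F) :=
    { toFun := fun g => Function.update g 0 ((pol g).eval x)
      invFun := fun h => Function.update h 0 (2 * h 0 - (pol h).eval x)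
      left_inv := fun g => by
        funext i
        rcases eq_or_ne i 0 with rfl | hi
        · simp [pol, eval_finsetSum, Fin.sum_univ_succ]
          ring
        · simp [hi]
      right_inv := fun g => by
        funext i
        rcases eq_or_ne i 0 with rfl | hi
        · simp [pol, eval_finsetSum, Fin.sum_univ_succ]
          ring
        · simp [hi] }
  have key : cnt (m + 2) a = ∑ g : Fin (m + 3) → F, ind (g 0 ≠ 0) * ind (g (Fin.last (m + 2)) ≠ 0) := by
    rw [cnt]
    refine Fintype.sum_equiv σ _ _ fun g => ?_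
    have hl : Fin.last (m + 2) ≠ (0 : Fin (m + 3)) := by simp [Fin.ext_iff]
    simp only [σ, Equiv.coe_fn_mk, Function.update_self, Function.update_of_ne hl, hR, ind]
    simp [ha1]
    split_ifs <;> simp_all
  rw [key, sum_fin_succ]
  have : ∀ t : Fin (m + 2) → F, ∀ y : F, ind ((Fin.cons y t : Fin (m + 3) → F) 0 ≠ 0) *
      ind ((Fin.cons y t : Fin (m + 3) → F) (Fin.last (m + 2)) ≠ 0) =
      ind (y ≠ 0) * ind (t (Fin.last (m + 1)) ≠ 0) := fun t y => by
    rw [show Fin.last (m + 2) = Fin.succ (Fin.last (m + 1)) from rfl, Fin.cons_zero, Fin.cons_succ]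
  simp only [this, ← Finset.mul_sum, ← Finset.sum_mul, sum_ind_ne]
  rw [mul_assoc]
  congr 1
  exact sum_last (m + 1)
where
  sum_last (k : ℕ) : ∑ t : Fin (k + 1) → F, ind (t (Fin.last k) ≠ 0) =
      (Fintype.card F - 1) * Fintype.card F ^ k := by
    rw [← (Fin.snocEquiv fun _ => F).sum_comp, Fintype.sum_prod_type]
    simp only [Fin.snocEquiv_apply, Fin.snoc_last, Finset.sum_const, Finset.card_univ, Fintype.card_fun,
      Fintype.card_fin, smul_eq_mul, ← Finset.mul_sum, sum_ind_ne]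
    ring

theorem cnt_of_eq_of_eq (m : ℕ) (a : Fin 3 → F) (ha : a 2 = 0) (ha1 : a 1 = 0) :
    cnt (m + 2) a = ind (a 0 ≠ 0) * ((Fintype.card F - 1) * Fintype.card F ^ (m + 2)) := by
  classical
  have hf : pol a = C (a 0) := by simp [pol, Fin.sum_univ_three, ha, ha1]
  have hR : ∀ g : Fin (m + 3) → F, ind (resultant (pol a) (pol g) 2 (m + 2) ≠ 0) =
      ind (a 0 ≠ 0) * ind (g (Fin.last (m + 2)) ≠ 0) := by
    intro g
    rw [hf, resultant_C_left, coeff_pol, dif_pos (by omega)]
    simp only [ind, ne_eq, mul_eq_zero, pow_eq_zero_iff', neg_eq_zero, one_ne_zero, false_and, false_or]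
    rw [show (⟨m + 2, by omega⟩ : Fin (m + 3)) = Fin.last (m + 2) from rfl]
    simp
    split_ifs <;> simp_all
  simp only [cnt, hR, ← Finset.mul_sum, cnt_of_eq_of_ne.sum_last]

theorem total (m : ℕ) :
    ∑ a : Fin 3 → F, cnt (m + 2) a =
      Fintype.card F ^ (m + 3) * (Fintype.card F - 1) ^ 2 * (Fintype.card F + 1) := by
  classical
  set q := Fintype.card F with hq
  have hmk : ∀ a0 a1 a2 : F, ![a0, a1, a2] 2 = a2 := fun _ _ _ => rfl
  have hsplit : ∑ a : Fin 3 → F, cnt (m + 2) a = ∑ a2 : F, ∑ a0 : F, ∑ a1 : F, cnt (m + 2) ![a0, a1, a2] := by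
    rw [sum_fin_succ]
    simp only [sum_fin_succ (k := 1), sum_fin_succ (k := 0), Finset.univ_unique, Finset.sum_singleton]
    rw [Finset.sum_congr rfl fun a0 _ => Finset.sum_comm, Finset.sum_comm]
    refine Finset.sum_congr rfl fun a2 _ => Finset.sum_congr rfl fun a0 _ => Finset.sum_congr rfl fun a1 _ => ?_
    congr 1
  have hne : ∀ a2 : F, a2 ≠ 0 → ∑ a0 : F, ∑ a1 : F, cnt (m + 2) ![a0, a1, a2] =
      q ^ (m + 1) * ((q - 1) * q ^ 2 + (q - 1) * q * (q * (q - 1))) := by
    intro a2 ha2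
    rw [← sum_quad a2 ha2, Finset.mul_sum]
    refine Finset.sum_congr rfl fun a0 _ => ?_
    rw [Finset.mul_sum]
    exact Finset.sum_congr rfl fun a1 _ => cnt_of_ne m _ ha2
  have h0 : ∑ a0 : F, ∑ a1 : F, cnt (m + 2) ![a0, a1, 0] =
      (q - 1) * ((q - 1) * q ^ (m + 2)) + (q - 1) * (q * ((q - 1) * (q - 1) * q ^ (m + 1))) := by
    rw [Finset.sum_comm, Fintype.sum_eq_add_sum_compl (0 : F)]
    congr 1
    · rw [Finset.sum_congr rfl fun a0 _ => cnt_of_eq_of_eq m ![a0, 0, 0] rfl rfl, ← Finset.sum_mul]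
      exact congrArg (· * _) (sum_ind_ne 0)
    · rw [Finset.sum_congr rfl fun a1 ha1 => Finset.sum_congr rfl fun a0 _ =>
        cnt_of_eq_of_ne m ![a0, a1, 0] rfl (by simpa using ha1)]
      simp [Finset.card_compl, q]
  rw [hsplit, Fintype.sum_eq_add_sum_compl (0 : F), h0,
    Finset.sum_congr rfl fun a2 ha2 => hne a2 (by simpa using ha2)]
  simp only [Finset.sum_const, Finset.card_compl, Finset.card_singleton, smul_eq_mul, ← hq]
  obtain ⟨p, hp⟩ : ∃ p, q = p + 1 := ⟨q - 1, by have : 0 < q := Fintype.card_pos; omega⟩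
  rw [hp, Nat.add_sub_cancel]
  ring

theorem card_resultant_ne_zero (n : ℕ) (h2 : 2 ≤ n) :
    Nat.card {p : (Fin 3 → F) × (Fin (n + 1) → F) // resultant (pol p.1) (pol p.2) 2 n ≠ 0} =
      Fintype.card F ^ (n + 1) * (Fintype.card F - 1) ^ 2 * (Fintype.card F + 1) := by
  classical
  obtain ⟨m, rfl⟩ : ∃ m, n = m + 2 := ⟨n - 2, by omega⟩
  rw [← total m, Nat.card_eq_fintype_card, Fintype.card_subtype, Finset.card_filter, Fintype.sum_prod_type]
  rfl

theorem card_resultant_eq_one (n : ℕ) (hn : Odd n) (h3 : 3 ≤ n) :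
    Nat.card {p : (Fin 3 → F) × (Fin (n + 1) → F) // resultant (pol p.1) (pol p.2) 2 n = 1} * (Fintype.card F - 1) =
      Fintype.card F ^ (n + 1) * (Fintype.card F - 1) ^ 2 * (Fintype.card F + 1) := by
  classical
  rw [← card_resultant_ne_zero n (by omega), ← Fintype.card_units, ← Nat.card_eq_fintype_card (α := Fˣ),
    ← Nat.card_prod]
  obtain ⟨e, he⟩ := hn
  have hpol : ∀ {k : ℕ} (c : F) (a : Fin k → F), pol (fun i => c * a i) = C c * pol a := fun c a => by
    simp [pol, Finset.mul_sum, mul_assoc]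
  have hsc : ∀ (u : Fˣ) (p : (Fin 3 → F) × (Fin (n + 1) → F)),
      resultant (pol (fun i => (u : F) * p.1 i)) (pol (fun i => ((u⁻¹ ^ e : Fˣ) : F) * p.2 i)) 2 n =
        u * resultant (pol p.1) (pol p.2) 2 n := by
    intro u p
    rw [hpol, hpol, resultant_C_mul_left, resultant_C_mul_right]
    have hu : (u : F) ^ n * ((u⁻¹ ^ e : Fˣ) : F) ^ 2 = u := by
      rw [← Units.val_pow_eq_pow_val, ← Units.val_pow_eq_pow_val, ← Units.val_mul]
      congr 1
      rw [he, pow_succ, ← pow_mul, mul_comm e 2, inv_pow]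
      rw [mul_assoc, mul_comm u, ← mul_assoc, mul_inv_cancel, one_mul]
    rw [← mul_assoc, hu]
  let T : ({p : (Fin 3 → F) × (Fin (n + 1) → F) // resultant (pol p.1) (pol p.2) 2 n = 1} × Fˣ) →
      {p : (Fin 3 → F) × (Fin (n + 1) → F) // resultant (pol p.1) (pol p.2) 2 n ≠ 0} := fun x =>
    ⟨(fun i => (x.2 : F) * x.1.1.1 i, fun i => ((x.2⁻¹ ^ e : Fˣ) : F) * x.1.1.2 i), by
      rw [hsc x.2 x.1.1, x.1.2, mul_one]; exact x.2.ne_zero⟩
  refine Nat.card_congr (Equiv.ofBijective T ⟨?_, ?_⟩)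
  · rintro ⟨⟨p, hp⟩, u⟩ ⟨⟨p', hp'⟩, u'⟩ h
    have h1 := congrArg Subtype.val h
    simp only [T] at h1
    obtain ⟨ha, hb⟩ := Prod.ext_iff.1 h1
    have hu : u = u' := by
      refine Units.ext ?_
      have e1 := hsc u p
      have e2 := hsc u' p'
      simp only at ha hb
      rw [ha, hb, hp, mul_one] at e1
      rw [hp', mul_one] at e2
      exact e1.symm.trans e2
    subst hu
    refine Prod.ext (Subtype.ext (Prod.ext ?_ ?_)) rfl
    · funext i; exact mul_left_cancel₀ u.ne_zero (congrFun ha i)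
    · funext i; exact mul_left_cancel₀ (Units.ne_zero _) (congrFun hb i)
  · rintro ⟨p, hp⟩
    set u := Units.mk0 _ hp with hu
    refine ⟨(⟨(fun i => ((u⁻¹ : Fˣ) : F) * p.1 i, fun i => (((u⁻¹)⁻¹ ^ e : Fˣ) : F) * p.2 i), ?_⟩, u), ?_⟩
    · rw [hsc u⁻¹ p, show resultant (pol p.1) (pol p.2) 2 n = (u : F) from rfl, ← Units.val_mul, inv_mul_cancel,
        Units.val_one]
    · refine Subtype.ext (Prod.ext ?_ ?_)
      · funext i; simp [T]
      · funext i; simp [T]

end Res52
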